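import Groth.Agent.L24.FrobQuot.Trace
import Groth.Agent.L24.Degen.Sheaf
import Groth.Agent.L21.Mod.Glue
import Groth.Agent.L03.Euler.Push
import Groth.Agent.L00.AlgQCoh
import Groth.Agent.L16.AffineBC.Pullback
import Groth.Agent.L17.SerreCriterion
import Groth.Prelude.Def_Frob
import Groth.Prelude.Def_ClSub2

/-!
# The cokernel of Frobenius along a finite morphism of degree two in odd characteristic
-/

set_option autoImplicit false
set_option linter.style.haveILetI false
set_option backward.isDefEq.respectTransparency.types false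
set_option backward.isDefEq.respectTransparency false

universe u

open CategoryTheory CategoryTheory.Limits AlgebraicGeometry TopologicalSpace Opposite

noncomputable section

namespace Groth.L24.FrobQuot

open Groth.L18.Frame (rs ro rs_rs ro_ro rs_smul ro_self rs_self)
open Groth.L19.ProjBdl (IsBasisOn lc coord lc_coord coord_eq app_lc)

variable {X Y : Scheme.{u}} (f : Y ⟶ X)

local notation "O" => Coh.structureModule

/-- The trace on the sections over an open. -/
def tr (W : X.Opens) (a : Γ(Y, f ⁻¹ᵁ W)) : Γ(X, W) :=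
  letI := (f.app W).hom.toAlgebra
  Algebra.trace Γ(X, W) Γ(Y, f ⁻¹ᵁ W) a

/-- Restriction of sections of a source. -/
def rp {V W : X.Opens} (h : V ≤ W) (a : Γ(Y, f ⁻¹ᵁ W)) : Γ(Y, f ⁻¹ᵁ V) :=
  Y.presheaf.map (homOfLE (f.preimage_mono h)).op a

variable {n : ℕ} {U : X.Opens} {b : Fin (n + 1) → Γ((Scheme.Modules.pushforward f).obj (O Y), U)}

/-- A frame gives a basis of the algebra of sections. -/
def algBasis {W : X.Opens} {c : Fin (n + 1) → Γ((Scheme.Modules.pushforward f).obj (O Y), W)}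
    (hc : IsBasisOn _ W c) :
    letI := (f.app W).hom.toAlgebra
    Module.Basis (Fin (n + 1)) Γ(X, W) Γ(Y, f ⁻¹ᵁ W) :=
  letI := (f.app W).hom.toAlgebra
  Module.Basis.ofEquivFun
    { toFun := fun a => Groth.L24.Degen.coordEquiv hc a
      invFun := fun z => (Groth.L24.Degen.coordEquiv hc).symm z
      left_inv := fun a => (Groth.L24.Degen.coordEquiv hc).left_inv a
      right_inv := fun z => (Groth.L24.Degen.coordEquiv hc).right_inv z
      map_add' := fun a a' => (Groth.L24.Degen.coordEquiv hc).map_add a a'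
      map_smul' := fun r a => (Groth.L24.Degen.coordEquiv hc).map_smul r a }

theorem algBasis_apply {W : X.Opens} {c : Fin (n + 1) → Γ((Scheme.Modules.pushforward f).obj (O Y), W)}
    (hc : IsBasisOn _ W c) (i : Fin (n + 1)) :
    letI := (f.app W).hom.toAlgebra
    algBasis f hc i = c i := by
  classical
  simp only [algBasis, Module.Basis.coe_ofEquivFun]
  exact (Groth.L24.Degen.coordEquiv_symm_apply hc _).trans (by rw [Finset.sum_eq_single i (fun j _ hj => by simp [hj]; exact zero_smul Γ(X, W) (c j)) (by simp)]; simp)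

theorem f_app_res {V W : X.Opens} (h : V ≤ W) (r : Γ(X, W)) :
    rp f h (f.app W r) = f.app V (X.presheaf.map (homOfLE h).op r) :=
  (ConcreteCategory.congr_hom (f.naturality (homOfLE h).op) r).symm

/-- The trace commutes with restriction to the opens carrying a frame. -/
theorem tr_res (hb : IsBasisOn _ U b) {V W : X.Opens} (hW : W ≤ U) (h : V ≤ W) (a : Γ(Y, f ⁻¹ᵁ W)) :
    tr f V (rp f h a) = X.presheaf.map (homOfLE h).op (tr f W a) := by
  classical
  letI := (f.app W).hom.toAlgebra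
  letI := (f.app V).hom.toAlgebra
  have hc := hb.mono hW
  have hd := hc.mono h
  let B := algBasis f hc
  let B' := algBasis f hd
  have hB : ∀ i, rp f h (B i) = B' i := fun i => by rw [algBasis_apply, algBasis_apply]; rfl
  show Algebra.trace Γ(X, V) Γ(Y, f ⁻¹ᵁ V) _ = X.presheaf.map _ (Algebra.trace Γ(X, W) Γ(Y, f ⁻¹ᵁ W) a)
  rw [Algebra.trace_eq_matrix_trace B', Algebra.trace_eq_matrix_trace B]
  simp only [Matrix.trace, Matrix.diag_apply, Algebra.leftMulMatrix_eq_repr_mul, map_sum]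
  refine Finset.sum_congr rfl fun i _ => ?_
  have hs : rp f h (a * B i) = ∑ j, X.presheaf.map (homOfLE h).op (B.repr (a * B i) j) • B' j := by
    conv_lhs => rw [← B.sum_repr (a * B i)]
    show (Y.presheaf.map _).hom _ = _
    rw [map_sum]
    refine Finset.sum_congr rfl fun j _ => ?_
    rw [Algebra.smul_def, map_mul, Algebra.smul_def, ← hB]
    exact congrArg (· * _) (f_app_res f h _)
  have hm : rp f h (a * B i) = rp f h a * B' i := by rw [← hB]; exact map_mul _ _ _
  rw [← hm, hs, map_sum]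
  simp [Module.Basis.repr_self, Finsupp.single_apply, Finset.sum_apply']

theorem tr_app (hb : IsBasisOn _ U b) {W : X.Opens} (hW : W ≤ U) (r : Γ(X, W)) :
    tr f W (f.app W r) = (n + 1 : ℕ) * r := by
  letI := (f.app W).hom.toAlgebra
  show Algebra.trace Γ(X, W) Γ(Y, f ⁻¹ᵁ W) (algebraMap Γ(X, W) Γ(Y, f ⁻¹ᵁ W) r) = _
  rw [Algebra.trace_algebraMap_of_basis (algBasis f (hb.mono hW)), Fintype.card_fin, nsmul_eq_mul]

theorem tr_pow (hb : IsBasisOn _ U b) {W : X.Opens} (hW : W ≤ U) (p : ℕ) [Fact p.Prime]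
    (h0 : (p : Γ(X, W)) = 0) (a : Γ(Y, f ⁻¹ᵁ W)) : tr f W (a ^ p) = tr f W a ^ p := by
  letI := (f.app W).hom.toAlgebra
  exact algebraTrace_pow_prime p h0 (algBasis f (hb.mono hW)) a

variable (p : ℕ) [Fact p.Prime] [FrobSch.IsCharP X p]

/-- A retraction of the unit commuting with the `p`-th power. -/
theorem exists_retraction (hp : p ≠ 2)
    (h2 : FlatMod.IsFinLocFreeOfRank 2 ((Scheme.Modules.pushforward f).obj (O Y))) :
    ∃ T : (Scheme.Modules.pushforward f).obj (O Y) ⟶ O X,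
      (∀ (W : X.Opens) (r : Γ(X, W)), (id (T.app W (id (f.app W r))) : Γ(X, W)) = r) ∧
      (∀ (W : X.Opens) (a : Γ(Y, f ⁻¹ᵁ W)),
        (id (T.app W (id (a ^ p))) : Γ(X, W)) = (id (T.app W (id a)) : Γ(X, W)) ^ p) := by
  have hex := fun x => Groth.L24.Degen.exists_basisOn_rank h2 x ⊤ trivial
  choose U b _ hxU _ hb using hex
  have hcov : iSup U = ⊤ := eq_top_iff.2 fun x _ => Opens.mem_iSup.2 ⟨x, hxU x⟩
  have h0 : ∀ W : X.Opens, (p : Γ(X, W)) = 0 := fun W => FrobSch.natCast_eq_zero_app X p W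
  obtain ⟨m, hm⟩ : ∃ m : ℕ, 2 * m = p + 1 := by
    obtain ⟨j, hj⟩ := (Fact.out (p := p.Prime)).odd_of_ne_two hp
    exact ⟨j + 1, by omega⟩
  have hm1 : ∀ W : X.Opens, (2 : Γ(X, W)) * (m : Γ(X, W)) = 1 := fun W => by
    have h := congrArg (fun z : ℕ => (z : Γ(X, W))) hm
    simpa [h0 W] using h
  have hmp : ∀ W : X.Opens, (m : Γ(X, W)) ^ p = m := fun W => by
    cases subsingleton_or_nontrivial Γ(X, W)
    · exact Subsingleton.elim _ _
    haveI : CharP Γ(X, W) p := (CharP.charP_iff_prime_eq_zero Fact.out).2 (h0 W)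
    haveI : ExpChar Γ(X, W) p := ExpChar.prime Fact.out
    exact map_natCast (frobenius Γ(X, W) p) m
  let φ (i : X) (W : X.Opens) (_ : W ≤ U i) :
      Γ((Scheme.Modules.pushforward f).obj (O Y), W) ⟶ Γ(O X, W) :=
    letI := (f.app W).hom.toAlgebra
    AddCommGrpCat.ofHom (((m : Γ(X, W)) • Algebra.trace Γ(X, W) Γ(Y, f ⁻¹ᵁ W)).toAddMonoidHom)
  have hφ : ∀ i (W : X.Opens) (h : W ≤ U i) (a : Γ(Y, f ⁻¹ᵁ W)), φ i W h a = (m : Γ(X, W)) * tr f W a :=
    fun i W h a => rfl
  obtain ⟨T, hT, -⟩ := Groth.L21.Mod.existsUnique_hom hcov φ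
    (fun i j V W hV hW h => by
      apply AddCommGrpCat.ext
      intro a
      show (m : Γ(X, V)) * tr f V (rp f h a) = X.presheaf.map (homOfLE h).op ((m : Γ(X, W)) * tr f W a)
      rw [tr_res f (hb j) hW h, map_mul, map_natCast])
    (fun i W h r a => by
      letI := (f.app W).hom.toAlgebra
      exact (((m : Γ(X, W)) • Algebra.trace Γ(X, W) Γ(Y, f ⁻¹ᵁ W)).map_smul r a))
  have hval : ∀ i (W : X.Opens) (h : W ≤ U i) (a : Γ(Y, f ⁻¹ᵁ W)),
      (id (T.app W (id a)) : Γ(X, W)) = (m : Γ(X, W)) * tr f W a := fun i W h a => by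
    rw [hT i W h]; rfl
  have hres : ∀ (V W : X.Opens) (h : V ≤ W) (a : Γ(Y, f ⁻¹ᵁ W)),
      X.presheaf.map (homOfLE h).op (id (T.app W (id a)) : Γ(X, W)) = (id (T.app V (id (rp f h a))) : Γ(X, V)) :=
    fun V W h a => (ConcreteCategory.congr_hom (T.mapPresheaf.naturality (homOfLE h).op) a).symm
  refine ⟨T, fun W r => ?_, fun W a => ?_⟩
  · refine TopCat.Sheaf.eq_of_locally_eq' X.sheaf (fun i => W ⊓ U i) W (fun i => homOfLE inf_le_left)
      (by rw [← inf_iSup_eq, hcov, inf_top_eq]) _ _ fun i => ?_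
    refine (hres _ _ inf_le_left _).trans ?_
    rw [f_app_res, hval i _ inf_le_right, tr_app f (hb i) inf_le_right, ← mul_assoc]
    rw [mul_comm ((m : Γ(X, W ⊓ U i))), show ((1 + 1 : ℕ) : Γ(X, W ⊓ U i)) = 2 by norm_num, hm1, one_mul]
    rfl
  · refine TopCat.Sheaf.eq_of_locally_eq' X.sheaf (fun i => W ⊓ U i) W (fun i => homOfLE inf_le_left)
      (by rw [← inf_iSup_eq, hcov, inf_top_eq]) _ _ fun i => ?_
    refine (hres _ _ inf_le_left _).trans (Eq.trans ?_ (map_pow _ _ _).symm)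
    refine Eq.trans ?_ (congrArg (· ^ p) (hres _ _ inf_le_left a).symm)
    rw [show rp f inf_le_left (a ^ p) = (rp f inf_le_left a) ^ p from map_pow _ _ _,
      hval i _ inf_le_right, hval i _ inf_le_right, tr_pow f (hb i) inf_le_right p (h0 _), mul_pow, hmp]

end Groth.L24.FrobQuot
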