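import Groth.Agent.L24.FrobQuot.Main
import Groth.Agent.L23.SourceRegular

/-!
# `B¹` is a retract of the direct image of `B¹` along a double cover in odd characteristic
-/

set_option autoImplicit false
set_option linter.style.haveILetI false
set_option backward.isDefEq.respectTransparency.types false
set_option backward.isDefEq.respectTransparency false

universe u

open CategoryTheory CategoryTheory.Limits AlgebraicGeometry TopologicalSpace Opposite
open FrobSch

noncomputable section

namespace Groth.L24.FrobQuot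

local notation "O" => Coh.structureModule
local notation "P" => Scheme.Modules.pushforward

variable {X Y : Scheme.{u}} (f : Y ⟶ X) (p : ℕ) [Fact p.Prime] [IsCharP X p] [IsCharP Y p]

instance isAffineHom_frob : IsAffineHom (frob X p) := ⟨fun U hU => hU⟩

/-- The pullback of sections, linear over the Frobenius on both sides. -/
def up : (P (frob X p)).obj (O X) ⟶ (P f).obj ((P (frob Y p)).obj (O Y)) :=
  ⟨PresheafOfModules.homMk
    { app := fun U => AddCommGrpCat.ofHom
        ((f.app U.unop).hom : Γ(X, U.unop) →+* Γ(Y, f ⁻¹ᵁ U.unop)).toAddMonoidHom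
      naturality := fun U V i => by
        ext s
        exact congr($(f.naturality i) s) }
    (fun U r s => by
      show (f.app U.unop).hom ((id r : Γ(X, U.unop)) ^ p * (id s : Γ(X, U.unop))) =
        ((f.app U.unop).hom (id r)) ^ p * (f.app U.unop).hom (id s)
      rw [map_mul, map_pow])⟩

variable (T : (P f).obj (O Y) ⟶ O X)

/-- The retraction, linear over the Frobenius on both sides. -/
def down : (P f).obj ((P (frob Y p)).obj (O Y)) ⟶ (P (frob X p)).obj (O X) :=
  ⟨PresheafOfModules.homMk
    { app := fun U => T.app U.unop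
      naturality := fun U V i => T.mapPresheaf.naturality i }
    (fun U r s => by
      show T.app U.unop (id (((f.app U.unop).hom (id r : Γ(X, U.unop))) ^ p * (id s : Γ(Y, f ⁻¹ᵁ U.unop)))) = _
      rw [← map_pow]
      exact T.app_smul ((id r : Γ(X, U.unop)) ^ p) (id s))⟩

theorem unit_up : ClSub.unitToPush (frob X p) ≫ up f p =
    ClSub.unitToPush f ≫ (P f).map (ClSub.unitToPush (frob Y p)) := by
  apply Scheme.Modules.hom_ext
  intro U
  apply AddCommGrpCat.ext
  intro a
  exact map_pow (f.app U).hom (id a : Γ(X, U)) p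

theorem unit_down
    (hT : ∀ (W : X.Opens) (a : Γ(Y, f ⁻¹ᵁ W)),
      (id (T.app W (id (a ^ p))) : Γ(X, W)) = (id (T.app W (id a)) : Γ(X, W)) ^ p) :
    (P f).map (ClSub.unitToPush (frob Y p)) ≫ down f p T = T ≫ ClSub.unitToPush (frob X p) := by
  apply Scheme.Modules.hom_ext
  intro U
  apply AddCommGrpCat.ext
  intro a
  exact hT U a

theorem up_down
    (hT : ∀ (W : X.Opens) (r : Γ(X, W)), (id (T.app W (id (f.app W r))) : Γ(X, W)) = r) :
    up f p ≫ down f p T = 𝟙 _ := by
  apply Scheme.Modules.hom_ext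
  intro U
  apply AddCommGrpCat.ext
  intro a
  exact hT U a

/-- Direct images of epimorphisms of quasi-coherent modules along affine morphisms are epimorphisms. -/
theorem epi_push [IsAffineHom f] {M N : Y.Modules} [Coh.IsQCoh M] [Coh.IsQCoh N] (φ : M ⟶ N) [Epi φ] :
    Epi ((P f).map φ) := by
  refine Groth.L17.Serre.epi_of_locally_surjective _ fun U x hx t => ?_
  obtain ⟨_, ⟨V, hV, rfl⟩, hxV, hVU⟩ :=
    X.isBasis_affineOpens.exists_subset_of_mem_open (show x ∈ U from hx) U.2
  obtain ⟨s, hs⟩ := Groth.L16.AffineBC.surjective_app_of_epi φ (hV.preimage f)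
    (((P f).obj N).presheaf.map (homOfLE (show V ≤ U from hVU)).op t)
  exact ⟨V, hVU, hxV, s, hs⟩

theorem mono_unit_frob [IsReduced Y] : Mono (ClSub.unitToPush (frob Y p)) := by
  rw [Preadditive.mono_iff_cancel_zero]
  intro M g hg
  apply Scheme.Modules.hom_ext
  intro U
  apply AddCommGrpCat.ext
  intro a
  have h : (id (g.app U a) : Γ(Y, U)) ^ p = 0 :=
    ConcreteCategory.congr_hom (congrArg (fun q : M ⟶ (P (frob Y p)).obj (O Y) => q.app U) hg) a
  exact (pow_eq_zero_iff (Fact.out (p := p.Prime)).ne_zero).1 h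

/-- The quotient by the unit of Frobenius. -/
abbrev B1 (Z : Scheme.{u}) [IsCharP Z p] : Z.Modules := cokernel (ClSub.unitToPush (frob Z p))

theorem isQCoh_push_frob : Coh.IsQCoh ((P (frob Y p)).obj (O Y)) := by
  haveI := Groth.L19.Conormal.isQCoh_structureModule Y
  exact Groth.L16.QcqsPush.isQCoh_push (O Y) (frob Y p)

theorem isQCoh_B1 : Coh.IsQCoh (B1 p Y) :=
  (Groth.L00.AlgQCoh.isQCoh_kernel_cokernel _ (Groth.L19.Conormal.isQCoh_structureModule Y)
    (isQCoh_push_frob p)).2

/-- `B¹_X` is a retract of `f_* B¹_Y`. -/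
theorem exists_retract [IsAffineHom f] [IsReduced Y] (hp : p ≠ 2)
    (h2 : FlatMod.IsFinLocFreeOfRank 2 ((P f).obj (O Y))) :
    ∃ (i : B1 p X ⟶ (P f).obj (B1 p Y)) (r : (P f).obj (B1 p Y) ⟶ B1 p X), i ≫ r = 𝟙 _ := by
  obtain ⟨T, hT1, hT2⟩ := exists_retraction f p hp h2
  haveI := mono_unit_frob (Y := Y) p
  haveI := isQCoh_push_frob (Y := Y) p
  haveI := isQCoh_B1 (Y := Y) p
  haveI : (P f).IsRightAdjoint := (Scheme.Modules.pullbackPushforwardAdjunction f).isRightAdjoint
  haveI : PreservesFiniteLimits (P f) := inferInstance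
  haveI : (P f).Additive := inferInstance
  let π := cokernel.π (ClSub.unitToPush (frob Y p))
  let S := ShortComplex.mk (ClSub.unitToPush (frob Y p)) π (cokernel.condition _)
  have hS : S.ShortExact := { exact := ShortComplex.exact_cokernel _ }
  haveI he : Epi ((P f).map π) := epi_push f π
  have hS' : (S.map (P f)).ShortExact :=
    { exact := hS.exact.map_of_mono_of_preservesKernel _ inferInstance inferInstance
      mono_f := inferInstanceAs (Mono ((P f).map (ClSub.unitToPush (frob Y p))))
      epi_g := he }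
  let hc := hS'.gIsCokernel
  let w : (P f).obj ((P (frob Y p)).obj (O Y)) ⟶ B1 p X :=
    down f p T ≫ cokernel.π (ClSub.unitToPush (frob X p))
  have hw : (P f).map (ClSub.unitToPush (frob Y p)) ≫ w = 0 := by
    rw [← Category.assoc, unit_down f p T hT2, Category.assoc, cokernel.condition, comp_zero]
  let r : (P f).obj (B1 p Y) ⟶ B1 p X := hc.desc (CokernelCofork.ofπ w hw)
  have hr : (P f).map π ≫ r = w := hc.fac (CokernelCofork.ofπ w hw) WalkingParallelPair.one
  refine ⟨cokernel.desc _ (up f p ≫ (P f).map π) ?_, r, ?_⟩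
  · rw [← Category.assoc, unit_up, Category.assoc, ← Functor.map_comp, cokernel.condition, Functor.map_zero,
      comp_zero]
  · rw [← cancel_epi (cokernel.π (ClSub.unitToPush (frob X p))), ← Category.assoc, cokernel.π_desc,
      Category.assoc, hr, ← Category.assoc, up_down f p T hT1, Category.id_comp, Category.comp_id]

/-- Vanishing descends to the base of the double cover. -/
theorem subsingleton_HH [IsAffineHom f] [X.IsSeparated] [IsReduced Y] (hp : p ≠ 2)
    (h2 : FlatMod.IsFinLocFreeOfRank 2 ((P f).obj (O Y)))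
    (k : Type u) [Field k] [X.Over (Spec (CommRingCat.of k))] (q : ℕ)
    (hY : Subsingleton (Coh.HH Y (B1 p Y) q)) : Subsingleton (Coh.HH X (B1 p X) q) := by
  letI : Y.Over (Spec (CommRingCat.of k)) := ⟨f ≫ (X ↘ Spec (CommRingCat.of k))⟩
  obtain ⟨e⟩ := Groth.L03.Euler.exists_HH_push_linearEquiv (k := k) f (B1 p Y) (isQCoh_B1 p) rfl q
  haveI : Subsingleton (Coh.HH X ((Coh.push f).obj (B1 p Y)) q) := e.toEquiv.symm.subsingleton
  obtain ⟨i, r, hir⟩ := exists_retract f p hp h2
  let i' : Coh.toAb (B1 p X) ⟶ Coh.toAb ((Coh.push f).obj (B1 p Y)) :=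
    (SheafOfModules.toSheaf.{u} X.ringCatSheaf).map i
  let r' : Coh.toAb ((Coh.push f).obj (B1 p Y)) ⟶ Coh.toAb (B1 p X) :=
    (SheafOfModules.toSheaf.{u} X.ringCatSheaf).map r
  have hir' : i' ≫ r' = 𝟙 _ :=
    ((SheafOfModules.toSheaf.{u} X.ringCatSheaf).map_comp i r).symm.trans
      ((congrArg (fun z => (SheafOfModules.toSheaf.{u} X.ringCatSheaf).map z) hir).trans
        ((SheafOfModules.toSheaf.{u} X.ringCatSheaf).map_id _))
  have hid : ∀ v : Coh.HH X (B1 p X) q, Sheaf.H.map r' q (Sheaf.H.map i' q v) = v := fun v => by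
    rw [← Sheaf.H.map_comp_apply, hir', Sheaf.H.map_id_apply]
  exact Function.Injective.subsingleton (f := fun v => Sheaf.H.map i' q v) fun v w h => by
    rw [← hid v, ← hid w]; exact congrArg (Sheaf.H.map r' q) h

end Groth.L24.FrobQuot
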