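import Mathlib.LinearAlgebra.Matrix.Charpoly.FiniteField
import Mathlib.LinearAlgebra.Matrix.CharP
import Mathlib.RingTheory.Trace.Basic

/-!
# The trace commutes with the `p`-th power in characteristic `p`
-/

set_option autoImplicit false
set_option linter.style.haveILetI false

universe u

open Polynomial Matrix

namespace Groth.L24.FrobQuot

theorem trace_pow_prime {R : Type u} [CommRing R] (p : ℕ) [hp : Fact p.Prime] (h0 : (p : R) = 0)
    {n : Type} [Fintype n] [DecidableEq n] [Nonempty n] (M : Matrix n n R) :
    trace (M ^ p) = trace M ^ p := by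
  cases subsingleton_or_nontrivial R
  · exact Subsingleton.elim _ _
  haveI : CharP R p := (CharP.charP_iff_prime_eq_zero hp.out).2 h0
  haveI : ExpChar R p := ExpChar.prime hp.out
  have h1 : (M ^ p).charpoly = M.charpoly.map (frobenius R p) := by
    refine Polynomial.expand_injective hp.out.pos ?_
    rw [← Polynomial.map_expand, Polynomial.map_frobenius_expand]
    unfold charpoly
    rw [AlgHom.map_det, ← coe_detMonoidHom, ← (detMonoidHom : Matrix n n R[X] →* R[X]).map_pow]
    apply congr_arg det
    refine matPolyEquiv.injective ?_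
    rw [map_pow, matPolyEquiv_charmatrix, sub_pow_char_of_commute _ ?_, ← C_pow]
    · exact (id (matPolyEquiv_eq_X_pow_sub_C p M) :)
    · exact (C M).commute_X
  rw [Matrix.trace_eq_neg_charpoly_coeff, Matrix.trace_eq_neg_charpoly_coeff, h1, Polynomial.coeff_map,
    frobenius_def]
  simp only [← frobenius_def, map_neg]

theorem algebraTrace_pow_prime {R A : Type u} [CommRing R] [CommRing A] [Algebra R A] (p : ℕ)
    [Fact p.Prime] (h0 : (p : R) = 0) {m : ℕ} (b : Module.Basis (Fin (m + 1)) R A) (a : A) :
    Algebra.trace R A (a ^ p) = Algebra.trace R A a ^ p := by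
  rw [Algebra.trace_eq_matrix_trace b, Algebra.trace_eq_matrix_trace b, map_pow, trace_pow_prime p h0]

end Groth.L24.FrobQuot
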